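import Mathlib
import Groth.Agent.Lib.Helper24.CharCyc.LocClosedDim
import Groth.Agent.Lib.Helper24.SecComp.Main4952
import Groth.Agent.Lib.Helper24.FibreDim.Main1553
import Groth.Agent.Lib.Helper24.FibreDim.Main3448
import Groth.Agent.Lib.lead.StalkDimIneq
import Groth.Agent.Lib.lead.FibreOrder

/-!
# Preimages of closed subsets of large local codimension are empty (helper24)
-/

set_option autoImplicit false
set_option linter.style.haveILetI false
universe u
open scoped Cardinal
open AlgebraicGeometry CategoryTheory CategoryTheory.Limits TopologicalSpace Topology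
open Groth.Agent.Lib.Helper24 Groth.Agent.Lib.lead

namespace Groth.Agent.Lib.Helper24.MovLem

open Groth.Agent.Lib.Helper24.CharCyc Groth.Agent.Lib.Helper24.SecComp

/-- in a scheme of finite type over a field, the closure of a point of a constructible subset has
dimension at most that of the subset -/
theorem dim_closure_le_of_mem_constructible (k : Type u) [Field k] {B : Scheme.{u}}
    (qB : B ⟶ Spec (CommRingCat.of k)) [LocallyOfFiniteType qB] {E : Set B}
    (hE : IsConstructible E) (e : B) (he : e ∈ E) :
    topologicalKrullDim ↥(closure ({e} : Set B)) ≤ topologicalKrullDim ↥E := by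
  have hYi : IsIrreducible (closure ({e} : Set B)) := isIrreducible_singleton.closure
  have hd : closure ({e} : Set B) ⊆ closure (E ∩ closure {e}) :=
    closure_mono (Set.singleton_subset_iff.2 ⟨he, subset_closure rfl⟩)
  obtain ⟨U, hU, hne, hUE⟩ :=
    Groth.Agent.Lib.helper11.ConstrTop.exists_open_of_dense hE hYi hd
  have hgen : IsGenericPoint e (closure ({e} : Set B)) := rfl
  have heU : e ∈ U :=
    Groth.Agent.Lib.helper11.ConstrTop.genericPoint_mem_of_inter_nonempty hgen hU hne
  have hloc : IsLocallyClosed (U ∩ closure ({e} : Set B)) :=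
    hU.isLocallyClosed.inter isClosed_closure.isLocallyClosed
  exact (dim_closure_le_of_mem k qB hloc e ⟨heU, subset_closure rfl⟩).trans
    (dim_le_of_subset hUE)

/-- the closure of the image has the dimension of the image -/
theorem dim_closure_range_le (k : Type u) [Field k] {S X : Scheme.{u}}
    (pX : X ⟶ Spec (CommRingCat.of k)) [LocallyOfFiniteType pX] [IsNoetherian X]
    [IsNoetherian S] (f : S ⟶ X) [LocallyOfFiniteType f] :
    topologicalKrullDim ↥(closure (Set.range f)) ≤ topologicalKrullDim ↥(Set.range f) := by
  haveI : LocallyOfFinitePresentation f :=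
    Groth.Agent.Lib.Helper27.NoethLfp.locallyOfFinitePresentation_of_isLocallyNoetherian f
  have hcon : IsConstructible (Set.range f) := by
    rw [← Set.image_univ]
    exact f.isConstructible_image IsConstructible.univ
  apply dim_le_of_forall_closure isClosed_closure.isLocallyClosed
  intro x hx
  -- `x` lies in the closure of the image of a component
  have hfin : (irreducibleComponents S).Finite := NoetherianSpace.finite_irreducibleComponents
  have hrange : Set.range f = ⋃ A ∈ irreducibleComponents S, f '' A := by
    rw [← Set.image_univ, ← sUnion_irreducibleComponents, Set.image_sUnion, Set.sUnion_image]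
  rw [hrange, hfin.closure_biUnion] at hx
  simp only [Set.mem_iUnion] at hx
  obtain ⟨A, hA, hxA⟩ := hx
  obtain ⟨α, hα⟩ := QuasiSober.sober hA.1 (isClosed_of_mem_irreducibleComponents A hA)
  rw [← hα.def, closure_image_closure f.continuous, Set.image_singleton] at hxA
  have hsub : closure ({x} : Set X) ⊆ closure ({f α} : Set X) :=
    isClosed_closure.closure_subset_iff.2 (Set.singleton_subset_iff.2 hxA)
  exact (dim_le_of_subset hsub).trans
    (dim_closure_le_of_mem_constructible k pX hcon (f α) ⟨α, rfl⟩)

/-- finite dimensionality -/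
theorem exists_nat_dim_le (k : Type u) [Field k] {X : Scheme.{u}}
    (pX : X ⟶ Spec (CommRingCat.of k)) [LocallyOfFiniteType pX] [IsNoetherian X] :
    ∃ N : ℕ, topologicalKrullDim X ≤ N := by
  have hfin : (irreducibleComponents X).Finite := NoetherianSpace.finite_irreducibleComponents
  have hex : ∀ A ∈ irreducibleComponents X, ∃ n : ℕ, topologicalKrullDim ↥A = n := by
    intro A hA
    obtain ⟨α, hα⟩ := QuasiSober.sober hA.1 (isClosed_of_mem_irreducibleComponents A hA)
    obtain ⟨n, hn⟩ := exists_nat_dim_closure k pX α
    exact ⟨n, by rw [← hα.def]; exact hn⟩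
  choose! n hn using hex
  obtain ⟨N, hN⟩ := (hfin.image n).bddAbove
  refine ⟨N, ?_⟩
  apply Groth.Agent.Lib.Helper7.TopDimComp.topologicalKrullDim_le_of_forall_component
  intro A hA
  rw [hn A hA]
  have : n A ≤ N := hN ⟨A, hA, rfl⟩
  exact_mod_cast this

theorem arith14901 (D : WithBot ℕ∞) (N : ℕ) (h : D + 1 ≤ D) (hN : D ≤ N) : D = ⊥ := by
  cases D with
  | bot => rfl
  | coe a =>
    exfalso
    cases a with
    | top =>
      have h3 : (⊤ : ℕ∞) ≤ ((N : ℕ) : ℕ∞) := WithBot.coe_le_coe.mp hN
      exact absurd (top_le_iff.mp h3) (ENat.natCast_ne_top _)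
    | coe m =>
      have h' : m + 1 ≤ m := by exact_mod_cast h
      omega

theorem main14901 (k : Type u) [Field k] (S X : Scheme.{u})
    (pS : S ⟶ Spec (CommRingCat.of k)) (pX : X ⟶ Spec (CommRingCat.of k))
    [LocallyOfFiniteType pS] [QuasiCompact pS] [LocallyOfFiniteType pX] [QuasiCompact pX]
    (f : S ⟶ X) (hf : f ≫ pX = pS) (Z : Set X)
    (h : ∀ s : S, f.base s ∈ Z →
      topologicalKrullDim (Set.range f.base) + 1 ≤ ringKrullDim (S.presheaf.stalk s)) :
    f.base ⁻¹' Z = ∅ := by
  haveI : CompactSpace S := QuasiCompact.compactSpace_of_compactSpace pS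
  haveI : CompactSpace X := QuasiCompact.compactSpace_of_compactSpace pX
  haveI : IsLocallyNoetherian S := LocallyOfFiniteType.isLocallyNoetherian pS
  haveI : IsNoetherian S := {}
  haveI : IsLocallyNoetherian X := LocallyOfFiniteType.isLocallyNoetherian pX
  haveI : IsNoetherian X := {}
  haveI : LocallyOfFiniteType f := by
    haveI : LocallyOfFiniteType (f ≫ pX) := by rw [hf]; infer_instance
    exact locallyOfFiniteType_of_comp f pX
  rw [Set.eq_empty_iff_forall_notMem]
  intro s₀ hs₀
  have hfac : f.toImage ≫ f.imageι = f := f.toImage_imageι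
  haveI : LocallyOfFiniteType f.toImage := by
    haveI : LocallyOfFiniteType (f.toImage ≫ f.imageι) := by rw [hfac]; infer_instance
    exact locallyOfFiniteType_of_comp f.toImage f.imageι
  haveI : IsLocallyNoetherian f.image :=
    LocallyOfFiniteType.isLocallyNoetherian (f.imageι ≫ pX)
  obtain ⟨s, hs1, -, hG, -⟩ := FibreDim.exists_max_fibre_point f.toImage s₀
  have hfs : f s = f s₀ := by
    have e1 : f s = f.imageι (f.toImage s) := by rw [← Scheme.Hom.comp_apply, hfac]
    have e2 : f s₀ = f.imageι (f.toImage s₀) := by rw [← Scheme.Hom.comp_apply, hfac]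
    rw [e1, e2, hs1]
  have hsZ : f.base s ∈ Z := by
    have : f.base s = f.base s₀ := hfs
    rw [this]; exact hs₀
  have h1 := h s hsZ
  have h2 := StalkDimIneq.main f.toImage s
  rw [FibreOrder.ringKrullDim_fiber_stalk, hG] at h2
  have h3 : ringKrullDim (f.image.presheaf.stalk (f.toImage s)) ≤
      topologicalKrullDim f.image := by
    rw [ringKrullDim_stalk_eq_coheight]
    exact StalkDimIneq.coheight_le_topologicalKrullDim _ _
  have h4 : topologicalKrullDim f.image = topologicalKrullDim ↥(closure (Set.range f)) := by
    have hr : Set.range f.imageι = closure (Set.range f) := by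
      rw [Scheme.IdealSheafData.range_subschemeι, Scheme.Hom.support_ker]
    rw [← hr]
    exact f.imageι.isEmbedding.toHomeomorph.isHomeomorph.topologicalKrullDim_eq
  have h5 := dim_closure_range_le k pX f
  obtain ⟨N, hN⟩ := exists_nat_dim_le k pX
  have h6 : topologicalKrullDim ↥(Set.range f) ≤ N :=
    (topologicalKrullDim_subspace_le _ _).trans hN
  have hne : topologicalKrullDim ↥(Set.range f) ≠ ⊥ := by
    intro hbot
    have := (dim_eq_bot_iff_isEmpty _).mp hbot
    exact this.false ⟨f s, s, rfl⟩
  apply hne
  refine arith14901 _ N ?_ h6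
  have h7 : ringKrullDim (S.presheaf.stalk s) ≤ topologicalKrullDim ↥(Set.range f) := by
    refine h2.trans ?_
    have h0 : (((0 : ℕ∞)) : WithBot ℕ∞) = 0 := rfl
    rw [h0, add_zero]
    exact h3.trans (h4 ▸ h5)
  exact h1.trans h7

end Groth.Agent.Lib.Helper24.MovLem
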